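import Cfsg.Agent.Spor.U35a.S.D0

set_option autoImplicit false
set_option maxRecDepth 100000000
set_option Elab.async false

namespace Cfsg.Agent.Spor.U35a.S

theorem gr4 : sub M3 (U.growI W2 [1, 2, 3, 2, 0, 3] (Nat.shiftLeft 1 20)) = true := by decide +kernel

theorem sd6 : U.sends [11, 1, 3, 11] 0 20 = true := by decide +kernel

theorem gr7 : sub (ones 525) (U.growI ([11, 1, 3, 11] :: W2) [0, 2, 3, 4, 3, 1, 0, 2, 3, 4, 3, 1, 0, 2, 3, 4] (Nat.shiftLeft 1 0)) = true := by decide +kernel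

theorem gr10 : sub M9 (U.growI W2 [0, 1, 2, 3, 2, 0, 1] (Nat.shiftLeft 1 14)) = true := by decide +kernel

theorem sd12 : U.sends [11, 5, 11] 0 14 = true := by decide +kernel

theorem gr13 : sub (ones 525) (U.growI ([11, 5, 11] :: W2) [0, 1, 2, 3, 4, 3, 1, 0, 1, 2, 3, 4, 3, 2, 1, 0, 1, 2, 3] (Nat.shiftLeft 1 0)) = true := by decide +kernel

theorem gr16 : sub M15 (U.growI W2 [0, 1, 2, 3, 2, 1, 0, 1] (Nat.shiftLeft 1 125)) = true := by decide +kernel

theorem sd18 : U.sends [11, 1, 3, 9, 7, 11] 0 125 = true := by decide +kernel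

theorem gr19 : sub (ones 525) (U.growI ([11, 1, 3, 9, 7, 11] :: W2) [0, 1, 2, 3, 4, 3, 2, 1, 0, 0, 1, 2, 3, 4, 3, 2, 1] (Nat.shiftLeft 1 0)) = true := by decide +kernel

theorem gr22 : sub M21 (U.growI W2 [0, 1, 2, 3, 2, 1, 0, 1] (Nat.shiftLeft 1 157)) = true := by decide +kernel

theorem sd24 : U.sends [11, 3, 5, 9, 7, 11] 0 157 = true := by decide +kernel

theorem gr25 : sub (ones 525) (U.growI ([11, 3, 5, 9, 7, 11] :: W2) [0, 1, 2, 3, 4, 3, 2, 1, 0, 0, 1, 2, 3, 4, 3, 2, 1] (Nat.shiftLeft 1 0)) = true := by decide +kernel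

theorem gr28 : sub M27 (U.growI W2 [0, 1, 2, 3, 2, 1, 0, 1, 2, 3, 2] (Nat.shiftLeft 1 1)) = true := by decide +kernel

theorem sd30 : U.sends [11] 0 1 = true := by decide +kernel

theorem gr31 : sub (ones 525) (U.growI ([11] :: W2) [0, 1, 2, 3, 4, 3, 2, 1, 0, 1, 2, 3, 4, 3, 2, 1, 0] (Nat.shiftLeft 1 0)) = true := by decide +kernel

theorem gr34 : sub M33 (U.growI W2 [0, 1, 2, 3, 2, 1, 0, 1, 3, 2, 0] (Nat.shiftLeft 1 31)) = true := by decide +kernel

theorem sd36 : U.sends [11, 3, 7, 11] 0 31 = true := by decide +kernel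

theorem gr37 : sub (ones 525) (U.growI ([11, 3, 7, 11] :: W2) [0, 1, 2, 3, 4, 3, 2, 1, 0, 0, 1, 2, 3, 4, 3, 2, 1] (Nat.shiftLeft 1 0)) = true := by decide +kernel

theorem gr40 : sub M39 (U.growI W2 [1, 2, 3, 2, 1, 0, 1, 2, 3, 2, 0] (Nat.shiftLeft 1 50)) = true := by decide +kernel

theorem sd42 : U.sends [11, 1, 3, 5, 11] 0 50 = true := by decide +kernel

theorem gr43 : sub (ones 525) (U.growI ([11, 1, 3, 5, 11] :: W2) [0, 2, 3, 4, 3, 2, 1, 0, 0, 1, 2, 3, 4, 3, 2, 1] (Nat.shiftLeft 1 0)) = true := by decide +kernel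

theorem ff45 : U.fixFrom 10 525 1 = true := by decide +kernel

theorem ff46 : U.fixFrom 10 525 3 = true := by decide +kernel

theorem ff47 : U.fixFrom 10 525 5 = true := by decide +kernel

theorem ff48 : U.fixFrom 10 525 7 = true := by decide +kernel

theorem ff49 : U.fixFrom 10 525 9 = true := by decide +kernel

theorem ff50 : U.fixFrom 10 525 11 = true := by decide +kernel

end Cfsg.Agent.Spor.U35a.S
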