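import Cfsg.Agent.Spor.Prim
import Cfsg.Agent.Spor.U35a.Main
import Cfsg.Agent.Spor.U35a.S.C0

set_option autoImplicit false
set_option maxRecDepth 100000000
set_option Elab.async false

namespace Cfsg.Agent.Spor.U35a.S

theorem hU : U.Ok 10 := U.ok_of 10 (show AllP (fun n => Net.okb 10 n = true) [n0, n1, n2, n3, n4, n5] from AllP.cons ok0 (AllP.cons ok1 (AllP.cons ok2 (AllP.cons ok3 (AllP.cons ok4 (AllP.cons ok5 (AllP.nil)))))))

theorem hfP : ∀ j < 6, U.fP [1, 3, 5, 7, 9, 11] j = fP j := by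
  intro j hj
  interval_cases j <;> rfl
theorem eG : gsub 6 fP = U.lsub W1 := (gsub_congr hfP).symm.trans (lsub_eq_gsub U [1, 3, 5, 7, 9, 11])
theorem upz1 : ev (atm 6 fP) [0] = U.τ 1 := pz1
theorem upz3 : ev (atm 6 fP) [2] = U.τ 3 := pz2
theorem upz5 : ev (atm 6 fP) [4] = U.τ 5 := pz3
theorem upz7 : ev (atm 6 fP) [6] = U.τ 7 := pz4
theorem upz9 : ev (atm 6 fP) [8] = U.τ 9 := pz5
theorem upz11 : ev (atm 6 fP) [10] = U.τ 11 := pz6
theorem eH : wsub 6 fP BW = U.lsub W2 :=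
  lsub_eq_of_all₂ (show List.Forall₂ _ [[2], [4], [6], [8]] [[3], [5], [7], [9]] from List.Forall₂.cons (upz3.trans (one_mul _).symm) (List.Forall₂.cons (upz5.trans (one_mul _).symm) (List.Forall₂.cons (upz7.trans (one_mul _).symm) (List.Forall₂.cons (upz9.trans (one_mul _).symm) (List.Forall₂.nil)))))
theorem reach5 : Reach (U.lsub W2) 20 M3 := (Reach.grow hU (Reach.base _ 20) gr4)
theorem reach8 : Reach (U.lsub ([11, 1, 3, 11] :: W2)) 0 (ones 525) := (Reach.grow hU (Reach.base _ 0) gr7)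
theorem reach11 : Reach (U.lsub W2) 14 M9 := (Reach.grow hU (Reach.base _ 14) gr10)
theorem reach14 : Reach (U.lsub ([11, 5, 11] :: W2)) 0 (ones 525) := (Reach.grow hU (Reach.base _ 0) gr13)
theorem reach17 : Reach (U.lsub W2) 125 M15 := (Reach.grow hU (Reach.base _ 125) gr16)
theorem reach20 : Reach (U.lsub ([11, 1, 3, 9, 7, 11] :: W2)) 0 (ones 525) := (Reach.grow hU (Reach.base _ 0) gr19)
theorem reach23 : Reach (U.lsub W2) 157 M21 := (Reach.grow hU (Reach.base _ 157) gr22)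
theorem reach26 : Reach (U.lsub ([11, 3, 5, 9, 7, 11] :: W2)) 0 (ones 525) := (Reach.grow hU (Reach.base _ 0) gr25)
theorem reach29 : Reach (U.lsub W2) 1 M27 := (Reach.grow hU (Reach.base _ 1) gr28)
theorem reach32 : Reach (U.lsub ([11] :: W2)) 0 (ones 525) := (Reach.grow hU (Reach.base _ 0) gr31)
theorem reach35 : Reach (U.lsub W2) 31 M33 := (Reach.grow hU (Reach.base _ 31) gr34)
theorem reach38 : Reach (U.lsub ([11, 3, 7, 11] :: W2)) 0 (ones 525) := (Reach.grow hU (Reach.base _ 0) gr37)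
theorem reach41 : Reach (U.lsub W2) 50 M39 := (Reach.grow hU (Reach.base _ 50) gr40)
theorem reach44 : Reach (U.lsub ([11, 1, 3, 5, 11] :: W2)) 0 (ones 525) := (Reach.grow hU (Reach.base _ 0) gr43)
noncomputable def X : List SubO := [([11, 1, 3, 11], 20, M3), ([11, 5, 11], 14, M9), ([11, 1, 3, 9, 7, 11], 125, M15), ([11, 3, 5, 9, 7, 11], 157, M21), ([11], 1, M27), ([11, 3, 7, 11], 31, M33), ([11, 1, 3, 5, 11], 50, M39)]
theorem hX : AllP (SubOk U W2 W1) X :=
  show AllP (SubOk U W2 W1) [([11, 1, 3, 11], 20, M3), ([11, 5, 11], 14, M9), ([11, 1, 3, 9, 7, 11], 125, M15), ([11, 3, 5, 9, 7, 11], 157, M21), ([11], 1, M27), ([11, 3, 7, 11], 31, M33), ([11, 1, 3, 5, 11], 50, M39)] from AllP.cons ⟨U.mem_letters (by decide), (hU.sends sd6), reach5⟩ (AllP.cons ⟨U.mem_letters (by decide), (hU.sends sd12), reach11⟩ (AllP.cons ⟨U.mem_letters (by decide), (hU.sends sd18), reach17⟩ (AllP.cons ⟨U.mem_letters (by decide), (hU.sends sd24),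 reach23⟩ (AllP.cons ⟨U.mem_letters (by decide), (hU.sends sd30), reach29⟩ (AllP.cons ⟨U.mem_letters (by decide), (hU.sends sd36), reach35⟩ (AllP.cons ⟨U.mem_letters (by decide), (hU.sends sd42), reach41⟩ (AllP.nil)))))))
theorem hXc : subCov 525 X = true := by decide +kernel
theorem hY : AllP (fun x : SubO => Reach (U.lsub (x.1 :: W2)) 0 (ones 525)) X :=
  show AllP (fun x : SubO => Reach (U.lsub (x.1 :: W2)) 0 (ones 525)) [([11, 1, 3, 11], 20, M3), ([11, 5, 11], 14, M9), ([11, 1, 3, 9, 7, 11], 125, M15), ([11, 3, 5, 9, 7, 11], 157, M21), ([11], 1, M27), ([11, 3, 7, 11], 31, M33), ([11, 1, 3, 5, 11], 50, M39)] from AllP.cons reach8 (AllP.cons reach14 (AllP.cons reach20 (AllP.cons reach26 (AllP.cons reach32 (AllP.cons reach38 (AllP.cons reach44 (AllP.nil)))))))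
theorem hfix : gsub 6 fP ≤ FixFrom 525 := (gsub_congr hfP).symm.le.trans (hU.gsub_fix (gs := [1, 3, 5, 7, 9, 11]) (AllP.cons ff45 (AllP.cons ff46 (AllP.cons ff47 (AllP.cons ff48 (AllP.cons ff49 (AllP.cons ff50 (AllP.nil))))))))

end Cfsg.Agent.Spor.U35a.S
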