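import Cfsg.Agent.Spor.Chk2
import Cfsg.Agent.Spor.U35a.D0

set_option autoImplicit false
set_option maxRecDepth 100000000
set_option Elab.async false
noncomputable section

namespace Cfsg.Agent.Spor.U35a.S

def W1 : List (List Nat) := [[1], [3], [5], [7], [9], [11]]

def W2 : List (List Nat) := [[3], [5], [7], [9]]

def M3 : Nat := nat_lit 0x1000038000000000000000000000000c2007c000000000000004c070000001100000

def M9 : Nat := nat_lit 0x400000000000001c0000001000000000a800f0000000017c000070000003f80e0001f001e000f1010404000

def M15 : Nat := nat_lit 0x1000400008000f81000000000b800f8180780003c8000000001f400000001c0078400080000080000010000000100020000000000000000000000000000000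

def M21 : Nat := nat_lit 0xf810007f100000000000dfe4078f20002000000003e0000000000000003c0408000000000000010000000000002000000000000000000000000000000000000000

def M27 : Nat := nat_lit 0xc10058000000000a40002646000001a00207ee05802002fe014d3480803f0c07f1a61e0db208bd0ef6eafbffe

def M33 : Nat := nat_lit 0x18010001808003f779c060001bc020c440c0005f807008020007ffff001003c18382040025ff150010000dff800008208000000f0000001e00000000200080000000

def M39 : Nat := nat_lit 0x706efee002ffc0086301e20003850103f107e20078000307ff80000e00a00380000f807800040000027f0004008030000f01c000000058000200104000000000000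

def U : Tab := ⟨[n0, n1, n2, n3, n4, n5], [⟨0, false, 0, 0, []⟩, ⟨0, false, 0, 0, []⟩, ⟨0, true, 0, 0, []⟩, ⟨1, false, 0, 0, []⟩, ⟨1, true, 0, 0, []⟩, ⟨2, false, 0, 0, []⟩, ⟨2, true, 0, 0, []⟩, ⟨3, false, 0, 0, []⟩, ⟨3, true, 0, 0, []⟩, ⟨4, false, 0, 0, []⟩, ⟨4, true, 0, 0, []⟩, ⟨5, false, 0, 0, []⟩, ⟨5, true, 0, 0, []⟩]⟩

end Cfsg.Agent.Spor.U35a.S
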